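import Cfsg.Agent.H776.P4.Stmts

/-!
# S5210, task P4-2R: bits (helper699)

For `q = 2` the field `K` has the four elements `i + j ω`, `ω² = ω + 1`. The homomorphism `mat` of `PG K` into the group
of the `4 × 4`-matrices over `F₂` (in the form `Fin 2 ⊕ Fin 2`).
-/

set_option autoImplicit false

namespace Cfsg.Agent.H699.P4

open Cfsg Matrix
open Cfsg.Agent.H776.P4
open Cfsg.Agent.H756.PU (HypK)

universe u

/-- the coordinates of a field with four elements -/
structure Four (K : Type u) [Field K] [StarRing K] where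
  e : ZMod 2 →+* K
  w : K
  hw : w * w = w + 1
  two : (2 : K) = 0
  st : ∀ x : K, star x = x * x
  c0 : K → ZMod 2
  c1 : K → ZMod 2
  rep : ∀ x : K, x = e (c0 x) + e (c1 x) * w
  uni : ∀ i j i' j' : ZMod 2, e i + e j * w = e i' + e j' * w → i = i' ∧ j = j'

theorem sq_zmod (i : ZMod 2) : i * i = i := by revert i; decide

theorem two_zmod : (2 : ZMod 2) = 0 := by decide

namespace Four

variable {K : Type u} [Field K] [StarRing K] (X : Four K)

theorem esq (i : ZMod 2) : X.e i * X.e i = X.e i := by rw [← map_mul, sq_zmod]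

include X in
theorem dbl (x : K) : x + x = 0 := by linear_combination x * X.two

theorem eq_iff {i j : ZMod 2} {x : K} (h : x = X.e i + X.e j * X.w) : X.c0 x = i ∧ X.c1 x = j :=
  X.uni _ _ _ _ ((X.rep x).symm.trans h)

theorem c0_add (x y : K) : X.c0 (x + y) = X.c0 x + X.c0 y := by
  refine (X.eq_iff (i := X.c0 x + X.c0 y) (j := X.c1 x + X.c1 y) ?_).1
  conv_lhs => rw [X.rep x, X.rep y]
  rw [map_add, map_add]
  ring

theorem c1_add (x y : K) : X.c1 (x + y) = X.c1 x + X.c1 y := by
  refine (X.eq_iff (i := X.c0 x + X.c0 y) (j := X.c1 x + X.c1 y) ?_).2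
  conv_lhs => rw [X.rep x, X.rep y]
  rw [map_add, map_add]
  ring

theorem star_rep (x : K) : star x = x + X.e (X.c1 x) := by
  have h1 := X.rep x
  set i := X.c0 x
  set j := X.c1 x
  rw [X.st, h1]
  linear_combination (X.esq i) + (X.esq j) * (X.w + 1) + X.e j * X.e j * X.hw + (X.e i * X.e j * X.w) * X.two

theorem c1_fix {a : K} (h : star a = a) : X.c1 a = 0 := by
  rw [X.star_rep] at h
  have h1 : X.e (X.c1 a) = 0 := by linear_combination h
  exact (X.uni (X.c1 a) 0 0 0 (by rw [h1]; simp)).1

theorem fix_rep {a : K} (h : star a = a) : a = X.e (X.c0 a) := by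
  conv_lhs => rw [X.rep a, X.c1_fix h]
  simp

theorem star_e (i : ZMod 2) : star (X.e i) = X.e i := by rw [X.st, X.esq]

theorem c0_e (i : ZMod 2) : X.c0 (X.e i) = i := (X.eq_iff (i := i) (j := 0) (by simp)).1

theorem c1_e (i : ZMod 2) : X.c1 (X.e i) = 0 := (X.eq_iff (i := i) (j := 0) (by simp)).2

theorem c0_co (i j : ZMod 2) : X.c0 (X.e i + X.e j * X.w) = i := (X.eq_iff rfl).1

theorem c1_co (i j : ZMod 2) : X.c1 (X.e i + X.e j * X.w) = j := (X.eq_iff rfl).2

theorem c0_mul_fix (r : K) {c : K} (h : star c = c) : X.c0 (r * c) = X.c0 r * X.c0 c := by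
  refine (X.eq_iff (i := X.c0 r * X.c0 c) (j := X.c1 r * X.c0 c) ?_).1
  conv_lhs => rw [X.rep r, X.fix_rep h]
  rw [map_mul, map_mul]
  ring

theorem c1_mul_fix (r : K) {c : K} (h : star c = c) : X.c1 (r * c) = X.c1 r * X.c0 c := by
  refine (X.eq_iff (i := X.c0 r * X.c0 c) (j := X.c1 r * X.c0 c) ?_).2
  conv_lhs => rw [X.rep r, X.fix_rep h]
  rw [map_mul, map_mul]
  ring

theorem tr (r b : K) : r * star b + star r * b = X.e (X.c0 r * X.c1 b + X.c1 r * X.c0 b) := by
  rw [X.star_rep r, X.star_rep b]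
  have hr := X.rep r
  have hb := X.rep b
  rw [map_add, map_mul, map_mul]
  linear_combination (X.e (X.c1 b)) * hr + (X.e (X.c1 r)) * hb + (r * b + X.e (X.c1 b) * X.e (X.c1 r) * X.w) * X.two

theorem nm (r : K) : r * star r = X.e (X.c0 r + X.c0 r * X.c1 r + X.c1 r) := by
  rw [X.star_rep r]
  have hr := X.rep r
  set i := X.c0 r
  set j := X.c1 r
  rw [hr, map_add, map_add, map_mul]
  linear_combination (X.esq i) + (X.e j * X.e j) * X.hw + (X.esq j) * (2 * X.w + 1) + (X.e i * X.e j * X.w + X.e j * X.w) * X.two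

theorem ext_bits {x y : K} (h0 : X.c0 x = X.c0 y) (h1 : X.c1 x = X.c1 y) : x = y := by
  rw [X.rep x, X.rep y, h0, h1]

end Four

/-- a field with four elements -/
theorem four_of_hyp {K : Type u} [Field K] [StarRing K] {p n : ℕ} (h : HypK K p n) (hq : p ^ n = 2) :
    Nonempty (Four K) := by
  classical
  have hfin := h.fin
  have := Fintype.ofFinite K
  have hp2 : p = 2 ∧ n = 1 := by
    have h1 : p ∣ 2 := hq ▸ dvd_pow_self p (by have := h.hn; omega)
    have h2 : p = 2 := (Nat.prime_dvd_prime_iff_eq h.pp Nat.prime_two).1 h1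
    subst h2
    exact ⟨rfl, Nat.pow_right_injective le_rfl (by simpa using hq)⟩
  obtain ⟨rfl, rfl⟩ := hp2
  have hchar := h.char
  have hcard : Nat.card K = 4 := by rw [h.card]; norm_num
  have hcard' : Fintype.card K = 4 := by rw [← Nat.card_eq_fintype_card, hcard]
  have two : (2 : K) = 0 := by exact_mod_cast CharP.cast_eq_zero K 2
  let e : ZMod 2 →+* K := ZMod.castHom (dvd_refl 2) K
  obtain ⟨w, hw⟩ : ∃ w : K, w ∉ ({0, 1} : Finset K) := by
    by_contra hcon
    push Not at hcon
    have h1 : Fintype.card K ≤ ({0, 1} : Finset K).card := Finset.card_le_card fun x _ => hcon x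
    have h2 : ({0, 1} : Finset K).card ≤ 2 := Finset.card_le_two
    omega
  rw [Finset.mem_insert, Finset.mem_singleton, not_or] at hw
  obtain ⟨hw0, hw1⟩ := hw
  have hw4 : w ^ 4 = w := by
    have := FiniteField.pow_card w
    rwa [hcard'] at this
  have hww : w * w = w + 1 := by
    have h1 : (w * (w - 1)) * (w * w + w + 1) = 0 := by linear_combination hw4
    rcases mul_eq_zero.1 h1 with h2 | h2
    · rcases mul_eq_zero.1 h2 with h3 | h3
      · exact absurd h3 hw0
      · exact absurd (sub_eq_zero.1 h3) hw1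
    · linear_combination h2 - (w + 1) * two
  have hz : ∀ k : ZMod 2, k = 0 ∨ k = 1 := by decide
  have uni : ∀ i j i' j' : ZMod 2, e i + e j * w = e i' + e j' * w → i = i' ∧ j = j' := by
    intro i j i' j' h1
    have h2 : e (i - i') = e (j' - j) * w := by
      rw [map_sub, map_sub]
      linear_combination h1
    rcases hz (j' - j) with h3 | h3
    · rw [h3, map_zero, zero_mul] at h2
      refine ⟨?_, (sub_eq_zero.1 h3).symm⟩
      rcases hz (i - i') with h4 | h4
      · exact sub_eq_zero.1 h4
      · rw [h4, map_one] at h2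
        exact absurd h2 one_ne_zero
    · exfalso
      rw [h3, map_one, one_mul] at h2
      rcases hz (i - i') with h4 | h4
      · rw [h4, map_zero] at h2
        exact hw0 h2.symm
      · rw [h4, map_one] at h2
        exact hw1 h2.symm
  have hinj : Function.Injective (fun t : ZMod 2 × ZMod 2 => e t.1 + e t.2 * w) := by
    rintro ⟨i, j⟩ ⟨i', j'⟩ h1
    obtain ⟨h2, h3⟩ := uni i j i' j' h1
    rw [h2, h3]
  have hbij := (Fintype.bijective_iff_injective_and_card (fun t : ZMod 2 × ZMod 2 => e t.1 + e t.2 * w)).2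
    ⟨hinj, by rw [hcard']; rfl⟩
  choose f hf using hbij.2
  exact ⟨{ e := e
           w := w
           hw := hww
           two := two
           st := fun x => by rw [h.star_eq, pow_one, sq]
           c0 := fun x => (f x).1
           c1 := fun x => (f x).2
           rep := fun x => (hf x).symm
           uni := uni }⟩

end Cfsg.Agent.H699.P4
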