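import Cfsg.Agent.H699.P4.Mat
import Cfsg.Agent.H781.Realized

/-!
# S5210, task P4-2R: the fusion system of `GL₄(2)` (helper699)
-/

set_option autoImplicit false

namespace Cfsg.Agent.H699.P4

open Cfsg Cfsg.FusionSystem Matrix
open Cfsg.Agent.H776.P4 Cfsg.Agent.H781
open Cfsg.Agent.H756.PU (HypK NormAut AF)

universe u v

/-- conjugation by an element normalizing the image of `Q` -/
theorem exists_aut {G0 : Type u} [Group G0] [Finite G0] {G : Type v} [Group G] (ι : G0 →* G)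
    (hι : Function.Injective ι) (Q : Subgroup G0) (g : G) (h : ∀ e ∈ Q, ∃ e' ∈ Q, g * ι e * g⁻¹ = ι e') :
    ∃ γ : MulAut Q, ∀ e : Q, ι ((γ e : Q) : G0) = g * ι (e : G0) * g⁻¹ := by
  choose! f hf1 hf2 using h
  let φ : Q →* Q :=
    { toFun := fun e => ⟨f e, hf1 e e.2⟩
      map_one' := Subtype.ext (hι (by
        show ι (f (1 : G0)) = ι 1
        rw [← hf2 _ Q.one_mem]; simp))
      map_mul' := fun a b => Subtype.ext (hι (by
        show ι (f (a * b : G0)) = ι (f a * f b)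
        rw [← hf2 _ (Q.mul_mem a.2 b.2), map_mul, map_mul, ← hf2 _ a.2, ← hf2 _ b.2]
        group)) }
  have hφ : Function.Injective φ := by
    intro a b hab
    have h1 : f (a : G0) = f (b : G0) := congrArg Subtype.val hab
    have h2 := hf2 _ a.2
    rw [h1, ← hf2 _ b.2] at h2
    exact Subtype.ext (hι (mul_left_cancel (mul_right_cancel h2)))
  exact ⟨MulEquiv.ofBijective φ (Finite.injective_iff_bijective.1 hφ), fun e => (hf2 e e.2).symm⟩

theorem center_M2 : ∀ C : M2, (∀ M : M2, C * M = M * C) → C = 0 ∨ C = 1 := by decide +kernel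

theorem card_M2u : Nat.card M2ˣ = 6 := by
  have h := Matrix.card_GL_field (𝔽 := ZMod 2) 2
  rw [ZMod.card] at h
  exact h

theorem card_M4u : Nat.card M4ˣ = 20160 := by
  have e : M4ˣ ≃* GL (Fin 4) (ZMod 2) :=
    Units.mapEquiv (Matrix.reindexAlgEquiv (ZMod 2) (ZMod 2) (finSumFinEquiv : Fin 2 ⊕ Fin 2 ≃ Fin (2 + 2))).toMulEquiv
  rw [Nat.card_congr e.toEquiv]
  have h := Matrix.card_GL_field (𝔽 := ZMod 2) 4
  rw [ZMod.card] at h
  rw [h]
  decide

/-- block diagonal matrices -/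
def bd (A B : M2ˣ) : M4ˣ where
  val := fromBlocks A 0 0 B
  inv := fromBlocks (A⁻¹ : M2ˣ) 0 0 (B⁻¹ : M2ˣ)
  val_inv := by
    rw [fromBlocks_multiply]
    simp
  inv_val := by
    rw [fromBlocks_multiply]
    simp

namespace Four

variable {K : Type u} [Field K] [StarRing K] (X : Four K)

theorem mt_V {v : PG K} (hv : v.r = 0) : X.mt v = fromBlocks 1 (X.bl v) 0 1 := by
  have h0 : X.c0 0 = 0 := (X.eq_iff (i := 0) (j := 0) (by simp)).1
  have h1 : X.c1 0 = 0 := (X.eq_iff (i := 0) (j := 0) (by simp)).2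
  rw [mt, hv, h0, h1, ← Matrix.one_fin_two]

theorem bl_surj (M : M2) : ∃ v : PG K, v.r = 0 ∧ X.bl v = M := by
  obtain ⟨v, hv, h⟩ := X.exists_mt 0 0 M
  have hr := h rfl rfl
  refine ⟨v, hr, ?_⟩
  rw [X.mt_V hr] at hv
  exact (fromBlocks_inj.1 hv).2.1

theorem bl_inj {v w : PG K} (hv : v.r = 0) (hw : w.r = 0) (h : X.bl v = X.bl w) : v = w :=
  X.mt_inj (by rw [X.mt_V hv, X.mt_V hw, h])

theorem conj_iff (g : M4ˣ) (x y : PG K) : X.io y = g * X.io x * g⁻¹ ↔ X.mt y * (g : M4) = (g : M4) * X.mt x := by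
  rw [eq_mul_inv_iff_mul_eq, Units.ext_iff]
  rfl

/-- the equation for elements of `V` -/
theorem conj_V {g : M4ˣ} {v w : PG K} (hv : v.r = 0) (hw : w.r = 0) (h : X.io w = g * X.io v * g⁻¹) :
    X.bl w * (g : M4).toBlocks₂₂ = (g : M4).toBlocks₁₁ * X.bl v ∧ (g : M4).toBlocks₂₁ * X.bl v = 0 := by
  rw [X.conj_iff, X.mt_V hv, X.mt_V hw, ← fromBlocks_toBlocks (g : M4), fromBlocks_multiply, fromBlocks_multiply] at h
  obtain ⟨-, h2, -, h4⟩ := fromBlocks_inj.1 h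
  simp only [one_mul, mul_one, zero_mul, zero_add] at h2 h4
  refine ⟨?_, ?_⟩
  · rw [add_comm] at h2
    exact add_right_cancel h2
  · have h5 : (g : M4).toBlocks₂₁ * X.bl v + (g : M4).toBlocks₂₂ = 0 + (g : M4).toBlocks₂₂ := by
      rw [zero_add]; exact h4.symm
    exact add_right_cancel h5

theorem conj_bd (A B : M2ˣ) {v w : PG K} (hv : v.r = 0) (hw : w.r = 0) (h : X.bl w * (B : M2) = (A : M2) * X.bl v) :
    X.io w = bd A B * X.io v * (bd A B)⁻¹ := by
  rw [X.conj_iff, X.mt_V hv, X.mt_V hw]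
  show _ * fromBlocks (A : M2) 0 0 (B : M2) = fromBlocks (A : M2) 0 0 (B : M2) * _
  rw [fromBlocks_multiply, fromBlocks_multiply]
  simp [h]

include X in
/-- the bits -/
theorem card_PG : Nat.card (PG K) = 64 := by
  let f : ZMod 2 × ZMod 2 × ZMod 2 × ZMod 2 × ZMod 2 × ZMod 2 → PG K := fun t =>
    X.el t.1 t.2.1 t.2.2.1 t.2.2.2.1 t.2.2.2.2.1 t.2.2.2.2.2
  have hf : Function.Bijective f := by
    constructor
    · rintro ⟨r0, r1, a, b0, b1, c⟩ ⟨r0', r1', a', b0', b1', c'⟩ h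
      have hr := congrArg PG.r h
      have ha := congrArg PG.a h
      have hb := congrArg PG.b h
      have hc := congrArg PG.c h
      simp only [f, el] at hr ha hb hc
      obtain ⟨rfl, rfl⟩ := X.uni _ _ _ _ hr
      obtain ⟨rfl, rfl⟩ := X.uni _ _ _ _ hb
      have ha' := X.e.injective ha
      have hc' := X.e.injective hc
      rw [ha', hc']
    · intro x
      refine ⟨(X.c0 x.r, X.c1 x.r, X.c0 x.a, X.c0 x.b, X.c1 x.b, X.c0 x.c), PG.ext ?_ ?_ ?_ ?_⟩
      · exact (X.rep x.r).symm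
      · exact (X.fix_rep x.ha).symm
      · exact (X.rep x.b).symm
      · exact (X.fix_rep x.hc).symm
  rw [← Nat.card_congr (Equiv.ofBijective f hf), Nat.card_eq_fintype_card]
  decide

theorem isUnit_blocks (g : M4ˣ) (h : (g : M4).toBlocks₂₁ = 0) :
    IsUnit (g : M4).toBlocks₁₁ ∧ IsUnit (g : M4).toBlocks₂₂ := by
  have h1 : IsUnit (g : M4).det := (Matrix.isUnit_iff_isUnit_det _).1 g.isUnit
  rw [← fromBlocks_toBlocks (g : M4), h, det_fromBlocks_zero₂₁] at h1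
  rw [Matrix.isUnit_iff_isUnit_det, Matrix.isUnit_iff_isUnit_det]
  exact ⟨isUnit_of_mul_isUnit_left h1, isUnit_of_mul_isUnit_right h1⟩

/-- the automizer of `V` -/
theorem card_autV [Finite (PG K)] (Γ : Subgroup (MulAut (PV K)))
    (hΓ : ∀ γ : MulAut (PV K), γ ∈ Γ ↔ ∃ g : M4ˣ, ∀ e : PV K, X.io ((γ e : PV K) : PG K) = g * X.io (e : PG K) * g⁻¹) :
    Nat.card Γ = 36 := by
  have hex : ∀ t : M2ˣ × M2ˣ, ∃ γ : MulAut (PV K), ∀ e : PV K,
      X.io ((γ e : PV K) : PG K) = bd t.1 t.2 * X.io (e : PG K) * (bd t.1 t.2)⁻¹ := by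
    intro t
    refine exists_aut X.io X.io_inj (PV K) (bd t.1 t.2) fun v hv => ?_
    obtain ⟨w, hw, h⟩ := X.bl_surj ((t.1 : M2) * X.bl v * (t.2⁻¹ : M2ˣ))
    refine ⟨w, hw, (X.conj_bd t.1 t.2 hv hw ?_).symm⟩
    rw [h, mul_assoc, Units.inv_mul, mul_one]
  choose Φ hΦ using hex
  have hb : ∀ (t : M2ˣ × M2ˣ) (e : PV K), X.bl (Φ t e : PV K) * (t.2 : M2) = (t.1 : M2) * X.bl (e : PG K) := by
    intro t e
    have h := (X.conj_V (g := bd t.1 t.2) e.2 (Φ t e).2 (hΦ t e)).1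
    exact h
  have hinj : Function.Injective Φ := by
    intro t t' h
    have h1 : ∀ M : M2, (t.1 : M2) * M * (t.2⁻¹ : M2ˣ) = (t'.1 : M2) * M * (t'.2⁻¹ : M2ˣ) := by
      intro M
      obtain ⟨v, hv, hM⟩ := X.bl_surj M
      have h2 := hb t ⟨v, hv⟩
      have h3 := hb t' ⟨v, hv⟩
      rw [← h] at h3
      simp only [hM] at h2 h3
      rw [← h2, ← h3, mul_assoc, mul_assoc, Units.mul_inv, Units.mul_inv]
    have h4 : ((t'.1⁻¹ * t.1 : M2ˣ) : M2) = ((t'.2⁻¹ * t.2 : M2ˣ) : M2) := by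
      have h5 := h1 1
      rw [mul_one, mul_one] at h5
      have h6 : (t.1 * t.2⁻¹ : M2ˣ) = t'.1 * t'.2⁻¹ := Units.ext h5
      have h7 : (t'.1⁻¹ * t.1 : M2ˣ) = t'.2⁻¹ * t.2 := by
        have : t.1 = t'.1 * t'.2⁻¹ * t.2 := by rw [← h6]; group
        rw [this]; group
      rw [h7]
    have h8 : ∀ M : M2, ((t'.1⁻¹ * t.1 : M2ˣ) : M2) * M = M * ((t'.1⁻¹ * t.1 : M2ˣ) : M2) := by
      intro M
      conv_rhs => rw [h4]
      have h9 := h1 M
      have h10 : ((t'.1⁻¹ : M2ˣ) : M2) * ((t.1 : M2) * M * (t.2⁻¹ : M2ˣ)) * (t.2 : M2) =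
          ((t'.1⁻¹ : M2ˣ) : M2) * ((t'.1 : M2) * M * (t'.2⁻¹ : M2ˣ)) * (t.2 : M2) := by rw [h9]
      rw [Units.val_mul, Units.val_mul]
      simp only [mul_assoc, Units.inv_mul, mul_one, Units.inv_mul_cancel_left] at h10 ⊢
      exact h10
    have h11 : (t'.1⁻¹ * t.1 : M2ˣ) = 1 := by
      rcases center_M2 _ h8 with h | h
      · exact absurd h (Units.ne_zero _)
      · exact Units.ext h
    have h12 : (t'.2⁻¹ * t.2 : M2ˣ) = 1 := Units.ext (by rw [← h4, h11])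
    exact Prod.ext (inv_mul_eq_one.1 h11).symm (inv_mul_eq_one.1 h12).symm
  have hrange : (Γ : Set (MulAut (PV K))) = Set.range Φ := by
    ext γ
    rw [SetLike.mem_coe, hΓ]
    constructor
    · rintro ⟨g, hg⟩
      have h21 : (g : M4).toBlocks₂₁ = 0 := by
        obtain ⟨v, hv, hM⟩ := X.bl_surj 1
        have := (X.conj_V hv (γ ⟨v, hv⟩).2 (hg ⟨v, hv⟩)).2
        rw [hM, mul_one] at this
        exact this
      obtain ⟨⟨A, hA⟩, ⟨B, hB⟩⟩ := isUnit_blocks g h21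
      refine ⟨(A, B), ?_⟩
      ext1 e
      apply Subtype.ext
      refine X.bl_inj (Φ (A, B) e).2 (γ e).2 ?_
      have h1 := hb (A, B) e
      have h2 := (X.conj_V e.2 (γ e).2 (hg e)).1
      rw [← hA, ← hB] at h2
      have h3 : X.bl ((Φ (A, B) e : PV K) : PG K) * (B : M2) = X.bl ((γ e : PV K) : PG K) * (B : M2) := h1.trans h2.symm
      exact B.mul_left_inj.1 h3
    · rintro ⟨t, rfl⟩
      exact ⟨bd t.1 t.2, hΦ t⟩
  have h1 : Nat.card Γ = Nat.card (Set.range Φ) := by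
    rw [← hrange]
    rfl
  rw [h1, ← Nat.card_congr (Equiv.ofInjective Φ hinj), Nat.card_prod, card_M2u]

/-- the elements normalizing the image of `S` -/
theorem mem_of_norm (g : M4ˣ) (α : MulAut (PG K)) (h : ∀ x, X.io (α x) = g * X.io x * g⁻¹) :
    ∃ u : PG K, g = X.io u := by
  have h1 : ∀ x, X.mt (α x) * (g : M4) = (g : M4) * X.mt x := fun x => (X.conj_iff g x (α x)).1 (h x)
  set M : M4 := (g : M4) with hM
  obtain ⟨y1, hy1, -⟩ := X.exists_mt 1 0 0
  obtain ⟨y2, hy2, -⟩ := X.exists_mt 0 0 !![0, 0; 1, 0]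
  obtain ⟨y3, hy3, -⟩ := X.exists_mt 0 1 0
  -- left multiplication
  have l1 := h1 (α⁻¹ y1)
  have l2 := h1 (α⁻¹ y2)
  have l3 := h1 (α⁻¹ y3)
  rw [MulAut.apply_inv_self, hy1] at l1
  rw [MulAut.apply_inv_self, hy2] at l2
  rw [MulAut.apply_inv_self, hy3] at l3
  -- the first column
  have a1 : M (Sum.inl 1) (Sum.inl 0) = 0 := by
    have := congrFun (congrFun l1 (Sum.inl 0)) (Sum.inl 0)
    simpa [Matrix.mul_apply, mt, Fin.sum_univ_two] using this
  have a2 : M (Sum.inr 0) (Sum.inl 0) = 0 := by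
    have := congrFun (congrFun l2 (Sum.inl 1)) (Sum.inl 0)
    simpa [Matrix.mul_apply, mt, Fin.sum_univ_two] using this
  have a3 : M (Sum.inr 1) (Sum.inl 0) = 0 := by
    have := congrFun (congrFun l3 (Sum.inr 0)) (Sum.inl 0)
    simpa [Matrix.mul_apply, mt, Fin.sum_univ_two] using this
  have a4 : M (Sum.inr 0) (Sum.inl 1) = 0 := by
    have := congrFun (congrFun l2 (Sum.inl 1)) (Sum.inl 1)
    simpa [Matrix.mul_apply, mt, Fin.sum_univ_two, a1] using this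
  -- the last row
  have a5 : M (Sum.inr 1) (Sum.inl 1) = 0 := by
    have := congrFun (congrFun (h1 y2) (Sum.inr 1)) (Sum.inr 0)
    rw [hy2] at this
    simpa [Matrix.mul_apply, mt, Fin.sum_univ_two] using this
  have a6 : M (Sum.inr 1) (Sum.inr 0) = 0 := by
    have := congrFun (congrFun (h1 y3) (Sum.inr 1)) (Sum.inr 1)
    rw [hy3] at this
    simpa [Matrix.mul_apply, mt, Fin.sum_univ_two] using this
  have h21 : M.toBlocks₂₁ = 0 := by
    ext i j
    fin_cases i <;> fin_cases j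
    · exact a2
    · exact a4
    · exact a3
    · exact a5
  obtain ⟨u1, u2⟩ := isUnit_blocks g h21
  rw [Matrix.isUnit_iff_isUnit_det, det_fin_two, isUnit_iff_ne_zero] at u1 u2
  have b1 : M (Sum.inl 0) (Sum.inl 0) * M (Sum.inl 1) (Sum.inl 1) ≠ 0 := by
    intro h0
    apply u1
    show M (Sum.inl 0) (Sum.inl 0) * M (Sum.inl 1) (Sum.inl 1) - M (Sum.inl 0) (Sum.inl 1) * M (Sum.inl 1) (Sum.inl 0) = 0
    rw [h0, a1, mul_zero, sub_zero]
  have b2 : M (Sum.inr 0) (Sum.inr 0) * M (Sum.inr 1) (Sum.inr 1) ≠ 0 := by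
    intro h0
    apply u2
    show M (Sum.inr 0) (Sum.inr 0) * M (Sum.inr 1) (Sum.inr 1) - M (Sum.inr 0) (Sum.inr 1) * M (Sum.inr 1) (Sum.inr 0) = 0
    rw [h0, a6, mul_zero, sub_zero]
  have hz : ∀ k l : ZMod 2, k * l ≠ 0 → k = 1 ∧ l = 1 := by decide
  obtain ⟨c1, c2⟩ := hz _ _ b1
  obtain ⟨c3, c4⟩ := hz _ _ b2
  obtain ⟨u, hu, -⟩ := X.exists_mt (M (Sum.inl 0) (Sum.inl 1)) (M (Sum.inr 0) (Sum.inr 1)) M.toBlocks₁₂
  refine ⟨u, Units.ext ?_⟩
  rw [X.io_coe, hu, ← hM, ← fromBlocks_toBlocks M, h21]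
  congr 1
  · ext i j
    fin_cases i <;> fin_cases j
    · exact c1
    · rfl
    · exact a1
    · exact c2
  · ext i j
    fin_cases i <;> fin_cases j
    · exact c3
    · rfl
    · exact a6
    · exact c4

/-- the transposition of the two middle vectors -/
def sw : M4ˣ where
  val := fromBlocks !![1, 0; 0, 0] !![0, 0; 1, 0] !![0, 1; 0, 0] !![0, 0; 0, 1]
  inv := fromBlocks !![1, 0; 0, 0] !![0, 0; 1, 0] !![0, 1; 0, 0] !![0, 0; 0, 1]
  val_inv := by decide +kernel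
  inv_val := by decide +kernel

/-- `sw` on `Q` -/
theorem sw_conj {x : PG K} (hx : x.c = 0) : ∃ y : PG K, y.c = 0 ∧ y.r = x.b ∧ sw * X.io x * sw⁻¹ = X.io y := by
  refine ⟨⟨x.b, X.e (X.c0 x.a + X.c0 x.b * X.c1 x.r + X.c0 x.r * X.c1 x.b + X.c0 x.b + X.c1 x.b + X.c0 x.r + X.c1 x.r),
    x.r, 0, X.star_e _, by simp⟩, rfl, rfl, ?_⟩
  symm
  rw [X.conj_iff]
  have h0 : X.c0 0 = 0 := (X.eq_iff (i := 0) (j := 0) (by simp)).1
  show fromBlocks _ _ _ _ * fromBlocks !![1, 0; 0, 0] !![0, 0; 1, 0] !![0, 1; 0, 0] !![0, 0; 0, 1] =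
    fromBlocks !![1, 0; 0, 0] !![0, 0; 1, 0] !![0, 1; 0, 0] !![0, 0; 0, 1] * fromBlocks _ _ _ _
  simp only [bl, hx, h0, X.c0_e]
  rw [fromBlocks_multiply, fromBlocks_multiply]
  generalize X.c0 x.a = xa, X.c0 x.b = xb0, X.c1 x.b = xb1, X.c0 x.r = xr0, X.c1 x.r = xr1
  have h2 := two_zmod
  congr 1
  · ext i j
    fin_cases i <;> fin_cases j <;> simp
  · ext i j
    fin_cases i <;> fin_cases j <;> simp
    linear_combination (xr0 * xb1 + xr0 + xr1) * h2
  · ext i j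
    fin_cases i <;> fin_cases j <;> simp
  · ext i j
    fin_cases i <;> fin_cases j <;> simp

end Four

section

variable {K : Type u} [Field K] [StarRing K]

theorem r_of_indu {Q : Subgroup (PG K)} {α : MulAut Q} (h : α ∈ autInducedBy ⊤ Q) (e : Q) :
    ((α e : Q) : PG K).r = (e : PG K).r := by
  revert e
  induction h using Subgroup.closure_induction with
  | mem α h =>
    intro e
    obtain ⟨g, -, hg⟩ := h
    rw [hg]
    simp
  | one => intro e; rfl
  | mul α β _ _ h1 h2 =>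
    intro e
    rw [MulAut.mul_apply, h1, h2]
  | inv α _ h1 =>
    intro e
    rw [← h1 (α⁻¹ e), MulAut.apply_inv_self]

theorem not_norm [Finite (PG K)] {γ : MulAut (PQ K)}
    (hγ : ∀ e : PQ K, ((γ e : PQ K) : PG K).r = (e : PG K).b) : ¬ NormAut (⊤ : Subgroup (PG K)) γ := by
  intro hN
  let h0 : PG K := ⟨0, 0, 0, 1, by simp, by simp⟩
  let e0 : PQ K := ⟨⟨1, 0, 0, 0, by simp, by simp⟩, rfl⟩
  obtain ⟨x, hx⟩ := exists_aut (MonoidHom.id (PG K)) Function.injective_id (PQ K) h0 (fun e he => by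
    refine ⟨h0 * e * h0⁻¹, ?_, rfl⟩
    have he' : e.c = 0 := he
    show (h0 * e * h0⁻¹).c = 0
    simp [he'])
  have hx' : ∀ e : PQ K, ((x e : PQ K) : PG K) = h0 * (e : PG K) * h0⁻¹ := hx
  have hxm : x ∈ autInducedBy (⊤ : Subgroup (PG K)) (PQ K) := Subgroup.subset_closure ⟨h0, trivial, hx'⟩
  have h1 := r_of_indu (hN x hxm) (γ e0)
  have h2 : (γ * x * γ⁻¹) (γ e0) = γ (x e0) := by
    rw [MulAut.mul_apply, MulAut.mul_apply, MulAut.inv_apply_self]
  rw [h2, hγ, hγ, hx'] at h1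
  have h3 : (h0 * (e0 : PG K) * h0⁻¹).b = -1 := by
    rw [PG.mul_b, PG.mul_b, PG.inv_b]
    simp [h0, e0]
  rw [h3] at h1
  have h4 : (-1 : K) = 0 := h1
  exact one_ne_zero (neg_eq_zero.1 h4)

end

/-- **(2R)** the fusion system of `GL₄(2)` -/
theorem stTwoR : StTwoR.{u} := by
  intro K _ _ p n _ hK hq
  obtain ⟨X⟩ := four_of_hyp hK hq
  have hcard := X.card_PG
  have hfin : Finite (PG K) := Nat.finite_of_card_ne_zero (by rw [hcard]; norm_num)
  have hp2 : p = 2 := by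
    have h1 : p ∣ 2 := hq ▸ dvd_pow_self p (by have := hK.hn; omega)
    exact (Nat.prime_dvd_prime_iff_eq hK.pp Nat.prime_two).1 h1
  subst hp2
  let G : Type u := ULift.{u} M4ˣ
  let ul : M4ˣ ≃* G := MulEquiv.ulift.symm
  let ι : (⊤ : Subgroup (PG K)) →* G := ul.toMonoidHom.comp (X.io.comp (Subgroup.topEquiv (G := PG K)).toMonoidHom)
  have hι : ∀ x : (⊤ : Subgroup (PG K)), ι x = ul (X.io (x : PG K)) := fun x => rfl
  have hinj : Function.Injective ι := by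
    intro a b hab
    rw [hι, hι] at hab
    exact Subtype.ext (X.io_inj (ul.injective hab))
  have hGfin : Finite G := Finite.of_equiv _ ul.toEquiv
  have hGc : Nat.card G = 20160 := by rw [← Nat.card_congr ul.toEquiv, card_M4u]
  have hrc : Nat.card ι.range = 64 := by
    rw [← Nat.card_congr (MonoidHom.ofInjective hinj).toEquiv, Nat.card_congr Subgroup.topEquiv.toEquiv, hcard]
  have hrp : IsPGroup 2 ι.range := IsPGroup.of_card (n := 6) (by rw [hrc]; norm_num)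
  have hidx : ¬ 2 ∣ ι.range.index := by
    have h1 := ι.range.card_mul_index
    rw [hrc, hGc] at h1
    omega
  let T : Sylow 2 G := hrp.toSylow hidx
  have hT : (T : Subgroup G) = ι.range := rfl
  have hreal := pullback_isRealizedBy ι hinj
  have haut : ∀ (Q : Subgroup (PG K)) (γ : MulAut Q), γ ∈ (pullback ι hinj).autGroup Q ↔
      ∃ g : M4ˣ, ∀ e : Q, X.io ((γ e : Q) : PG K) = g * X.io (e : PG K) * g⁻¹ := by
    intro Q γ
    rw [H802.mem_autGroup_iff _ le_top]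
    constructor
    · rintro ⟨h1, h2, g, hg⟩
      refine ⟨ul.symm g, fun e => ?_⟩
      have h3 := hg e
      rw [hι, hι] at h3
      have h4 := congrArg ul.symm h3
      rw [map_mul, map_mul, map_inv, MulEquiv.symm_apply_apply, MulEquiv.symm_apply_apply] at h4
      exact h4
    · rintro ⟨g, hg⟩
      refine ⟨le_top, fun _ => trivial, ul g, fun e => ?_⟩
      rw [hι, hι, ← map_mul, ← map_inv, ← map_mul]
      exact congrArg ul (hg e)
  have hAF : ∀ α : MulAut (PG K), α ∈ AF (pullback ι hinj) ↔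
      ∃ g : M4ˣ, ∀ x : PG K, X.io (α x) = g * X.io x * g⁻¹ := by
    intro α
    have h1 : α ∈ AF (pullback ι hinj) ↔
        (MulAut.congr (Subgroup.topEquiv (G := PG K))).symm α ∈ (pullback ι hinj).autGroup ⊤ := by
      constructor
      · rintro ⟨β, hβ, rfl⟩
        rw [MulEquiv.coe_toMonoidHom, MulEquiv.symm_apply_apply]
        exact hβ
      · intro h
        exact ⟨_, h, MulEquiv.apply_symm_apply _ _⟩
    rw [h1, haut]
    constructor
    · rintro ⟨g, hg⟩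
      exact ⟨g, fun x => hg ⟨x, trivial⟩⟩
    · rintro ⟨g, hg⟩
      exact ⟨g, fun x => hg x⟩
  refine ⟨pullback ι hinj, isSaturated_of_isRealizedBy hreal T hT, ⟨_, inferInstance, hGfin, ι, hreal, T, hT⟩,
    X.card_autV _ (haut (PV K)), ?_, ?_⟩
  · ext α
    rw [hAF]
    constructor
    · rintro ⟨g, hg⟩
      obtain ⟨u, rfl⟩ := X.mem_of_norm g α hg
      refine ⟨u, ?_⟩
      ext1 x
      apply X.io_inj
      rw [hg, MulAut.conj_apply, map_mul, map_mul, map_inv]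
    · rintro ⟨u, rfl⟩
      exact ⟨X.io u, fun x => by rw [MulAut.conj_apply, map_mul, map_mul, map_inv]⟩
  · obtain ⟨γ, hγ⟩ := exists_aut X.io X.io_inj (PQ K) Four.sw (fun e he => by
      obtain ⟨y, hy1, -, hy2⟩ := X.sw_conj (x := e) he
      exact ⟨y, hy1, hy2⟩)
    intro hn
    refine not_norm (γ := γ) (fun e => ?_) (hn γ ((haut _ _).2 ⟨Four.sw, hγ⟩))
    obtain ⟨y, -, hy1, hy2⟩ := X.sw_conj (x := (e : PG K)) e.2
    have h1 : ((γ e : PQ K) : PG K) = y := X.io_inj ((hγ e).trans hy2)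
    rw [h1, hy1]

end Cfsg.Agent.H699.P4
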